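import Mathlib

namespace Groth.Agent.Lib.Helper32.Units

open MvPolynomial
open scoped WithZero

noncomputable section

open scoped Classical

variable (σ : Type*) (k : Type*) [Field k]

def degVal0 : Valuation (MvPolynomial σ k) ℤᵐ⁰ where
  toFun f := if f = 0 then 0 else WithZero.exp (f.totalDegree : ℤ)
  map_zero' := by simp
  map_one' := by simp
  map_mul' f g := by
    by_cases hf : f = 0
    · simp [hf]
    by_cases hg : g = 0
    · simp [hg]
    simp only [hf, hg, mul_eq_zero, or_self, if_false]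
    rw [totalDegree_mul_of_isDomain hf hg]
    push_cast
    rw [WithZero.exp_add]
  map_add_le_max' f g := by
    by_cases hf : f = 0
    · simp [hf]
    by_cases hg : g = 0
    · simp [hg]
    by_cases hfg : f + g = 0
    · simp [hfg]
    simp only [hf, hg, hfg, if_false]
    have := totalDegree_add f g
    rw [le_max_iff, WithZero.exp_le_exp, WithZero.exp_le_exp]
    rcases le_max_iff.mp this with h | h
    · left; exact_mod_cast h
    · right; exact_mod_cast h

theorem degVal0_apply {f : MvPolynomial σ k} (hf : f ≠ 0) :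
    degVal0 σ k f = WithZero.exp (f.totalDegree : ℤ) := by
  show (if f = 0 then 0 else WithZero.exp (f.totalDegree : ℤ)) = _
  rw [if_neg hf]

theorem degVal0_ne_zero {f : MvPolynomial σ k} (hf : f ≠ 0) : degVal0 σ k f ≠ 0 := by
  rw [degVal0_apply σ k hf]; exact WithZero.exp_ne_zero

theorem le_supp_primeCompl :
    nonZeroDivisors (MvPolynomial σ k) ≤ (degVal0 σ k).supp.primeCompl := by
  intro s hs
  have hs0 : s ≠ 0 := nonZeroDivisors.ne_zero hs
  show s ∉ (degVal0 σ k).supp
  rw [Valuation.mem_supp_iff]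
  exact degVal0_ne_zero σ k hs0

variable (F : Type*) [Field F] [Algebra (MvPolynomial σ k) F] [IsFractionRing (MvPolynomial σ k) F]

def degVal : Valuation F ℤᵐ⁰ :=
  (degVal0 σ k).extendToLocalization (le_supp_primeCompl σ k) F

theorem degVal_algebraMap (f : MvPolynomial σ k) :
    degVal σ k F (algebraMap _ F f) = degVal0 σ k f :=
  Valuation.extendToLocalization_apply_map_apply _ _ _ _

def Oinf : ValuationSubring F := (degVal σ k F).valuationSubring

theorem mem_Oinf_iff (x : F) : x ∈ Oinf σ k F ↔ degVal σ k F x ≤ 1 := Iff.rfl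

theorem algebraMap_mem_Oinf_iff (f : MvPolynomial σ k) :
    algebraMap _ F f ∈ Oinf σ k F ↔ ∃ c : k, f = C c := by
  rw [mem_Oinf_iff, degVal_algebraMap]
  constructor
  · intro h
    by_cases hf : f = 0
    · exact ⟨0, by simp [hf]⟩
    rw [degVal0_apply σ k hf, ← WithZero.exp_zero, WithZero.exp_le_exp] at h
    have h0 : f.totalDegree = 0 := by omega
    exact ⟨_, totalDegree_eq_zero_iff_eq_C.mp h0⟩
  · rintro ⟨c, rfl⟩
    by_cases hc : (C c : MvPolynomial σ k) = 0
    · rw [hc]; simp
    rw [degVal0_apply σ k hc, totalDegree_C]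
    simp

theorem exists_log {x : F} (hx : x ≠ 0) : ∃ n : ℤ, degVal σ k F x = WithZero.exp n := by
  have h : degVal σ k F x ≠ 0 := (Valuation.ne_zero_iff _).mpr hx
  exact ⟨WithZero.log (degVal σ k F x), (WithZero.exp_log h).symm⟩

theorem isUnit_of_degVal_eq_one {x : Oinf σ k F} (hx : degVal σ k F (x : F) = 1) : IsUnit x := by
  have hx0 : (x : F) ≠ 0 := by
    intro h
    rw [h, map_zero] at hx
    exact zero_ne_one hx
  have hinv : (x : F)⁻¹ ∈ Oinf σ k F := by
    rw [mem_Oinf_iff, map_inv₀, hx, inv_one]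
  refine ⟨⟨x, ⟨(x : F)⁻¹, hinv⟩, ?_, ?_⟩, rfl⟩
  · apply Subtype.ext
    show (x : F) * (x : F)⁻¹ = 1
    exact mul_inv_cancel₀ hx0
  · apply Subtype.ext
    show (x : F)⁻¹ * (x : F) = 1
    exact inv_mul_cancel₀ hx0

theorem degVal_eq_one_of_isUnit {x : Oinf σ k F} (hx : IsUnit x) : degVal σ k F (x : F) = 1 := by
  obtain ⟨u, rfl⟩ := hx
  have h1 : degVal σ k F ((u : Oinf σ k F) : F) ≤ 1 := (u : Oinf σ k F).2
  have h2 : degVal σ k F (((u⁻¹ : (Oinf σ k F)ˣ) : Oinf σ k F) : F) ≤ 1 :=
    ((u⁻¹ : (Oinf σ k F)ˣ) : Oinf σ k F).2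
  have h3 : ((u : Oinf σ k F) : F) * (((u⁻¹ : (Oinf σ k F)ˣ) : Oinf σ k F) : F) = 1 := by
    have := congrArg (Subtype.val) (u.mul_inv)
    exact this
  have h4 := congrArg (degVal σ k F) h3
  rw [map_mul, map_one] at h4
  rcases lt_or_eq_of_le h1 with h | h
  · exfalso
    have : degVal σ k F ((u : Oinf σ k F) : F) * degVal σ k F (((u⁻¹ : (Oinf σ k F)ˣ) : Oinf σ k F) : F) < 1 := by
      calc _ ≤ degVal σ k F ((u : Oinf σ k F) : F) * 1 := by
            gcongr
        _ < 1 := by rwa [mul_one]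
    rw [h4] at this
    exact lt_irrefl _ this
  · exact h

variable [Nonempty σ]

def unif : Oinf σ k F :=
  ⟨(algebraMap (MvPolynomial σ k) F (X (Classical.arbitrary σ)))⁻¹, by
    rw [mem_Oinf_iff, map_inv₀, degVal_algebraMap, degVal0_apply σ k (X_ne_zero _),
      totalDegree_X, ← WithZero.exp_neg]
    rw [← WithZero.exp_zero, WithZero.exp_le_exp]
    norm_num⟩

theorem degVal_unif : degVal σ k F (unif σ k F : F) = WithZero.exp (-1 : ℤ) := by
  show degVal σ k F (algebraMap (MvPolynomial σ k) F (X (Classical.arbitrary σ)))⁻¹ = _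
  rw [map_inv₀, degVal_algebraMap, degVal0_apply σ k (X_ne_zero _), totalDegree_X,
    ← WithZero.exp_neg]
  rfl

theorem unif_ne_zero : (unif σ k F : F) ≠ 0 := by
  intro h
  have := degVal_unif σ k F
  rw [h, map_zero] at this
  exact WithZero.exp_ne_zero this.symm

theorem irreducible_unif : Irreducible (unif σ k F) := by
  constructor
  · intro h
    have := degVal_eq_one_of_isUnit σ k F h
    rw [degVal_unif, ← WithZero.exp_zero, WithZero.exp_inj] at this
    norm_num at this
  · intro a b hab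
    have hab' : (unif σ k F : F) = (a : F) * (b : F) := by
      have := congrArg Subtype.val hab
      simpa using this
    have ha0 : (a : F) ≠ 0 := by
      intro h; rw [h, zero_mul] at hab'; exact unif_ne_zero σ k F hab'
    have hb0 : (b : F) ≠ 0 := by
      intro h; rw [h, mul_zero] at hab'; exact unif_ne_zero σ k F hab'
    obtain ⟨m, hm⟩ := exists_log σ k F ha0
    obtain ⟨n, hn⟩ := exists_log σ k F hb0
    have hm1 : m ≤ 0 := by
      have : degVal σ k F (a : F) ≤ 1 := a.2
      rwa [hm, ← WithZero.exp_zero, WithZero.exp_le_exp] at this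
    have hn1 : n ≤ 0 := by
      have : degVal σ k F (b : F) ≤ 1 := b.2
      rwa [hn, ← WithZero.exp_zero, WithZero.exp_le_exp] at this
    have hsum : m + n = -1 := by
      have := congrArg (degVal σ k F) hab'
      rw [map_mul, degVal_unif, hm, hn, ← WithZero.exp_add, WithZero.exp_inj] at this
      omega
    rcases (show m = 0 ∨ n = 0 by omega) with h | h
    · left
      apply isUnit_of_degVal_eq_one
      rw [hm, h, WithZero.exp_zero]
    · right
      apply isUnit_of_degVal_eq_one
      rw [hn, h, WithZero.exp_zero]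

instance : IsDiscreteValuationRing (Oinf σ k F) := by
  apply IsDiscreteValuationRing.ofHasUnitMulPowIrreducibleFactorization
  refine ⟨unif σ k F, irreducible_unif σ k F, ?_⟩
  intro x hx
  have hx0 : (x : F) ≠ 0 := by
    intro h; exact hx (Subtype.ext h)
  obtain ⟨m, hm⟩ := exists_log σ k F hx0
  have hm1 : m ≤ 0 := by
    have : degVal σ k F (x : F) ≤ 1 := x.2
    rwa [hm, ← WithZero.exp_zero, WithZero.exp_le_exp] at this
  refine ⟨(-m).toNat, ?_⟩
  have hval : degVal σ k F ((x : F) * ((unif σ k F : F) ^ (-m).toNat)⁻¹) = 1 := by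
    rw [map_mul, map_inv₀, map_pow, degVal_unif, hm, ← WithZero.exp_nsmul, ← WithZero.exp_neg,
      ← WithZero.exp_add, ← WithZero.exp_zero, WithZero.exp_inj]
    have : ((-m).toNat : ℤ) = -m := Int.toNat_of_nonneg (by omega)
    rw [nsmul_eq_mul, this]
    ring
  have hmem : (x : F) * ((unif σ k F : F) ^ (-m).toNat)⁻¹ ∈ Oinf σ k F := by
    rw [mem_Oinf_iff, hval]
  have hu := isUnit_of_degVal_eq_one σ k F (x := ⟨_, hmem⟩) hval
  obtain ⟨u, hu⟩ := hu
  refine ⟨u, ?_⟩
  rw [hu]
  apply Subtype.ext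
  show (unif σ k F : F) ^ (-m).toNat * ((x : F) * ((unif σ k F : F) ^ (-m).toNat)⁻¹) = x
  have : (unif σ k F : F) ^ (-m).toNat ≠ 0 := pow_ne_zero _ (unif_ne_zero σ k F)
  field_simp

end

end Groth.Agent.Lib.Helper32.Units
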