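import Mathlib
import Groth.Agent.Lib.Helper32.Units.DegVal

namespace Groth.Agent.Lib.Helper32.Units

open MvPolynomial IsDedekindDomain
open scoped WithZero

noncomputable section

variable (σ : Type*) (k : Type*) [Field k] [Nonempty σ]
variable (F : Type*) [Field F] [Algebra (MvPolynomial σ k) F] [IsFractionRing (MvPolynomial σ k) F]
variable (L : Type*) [Field L] [Algebra F L]

instance (priority := 50) algOinfL : Algebra (Oinf σ k F) L :=
  ((algebraMap F L).comp (algebraMap (Oinf σ k F) F)).toAlgebra

instance towerOinfL : IsScalarTower (Oinf σ k F) F L :=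
  IsScalarTower.of_algebraMap_eq (fun _ => rfl)

theorem algebraMap_Oinf_L_injective : Function.Injective (algebraMap (Oinf σ k F) L) := by
  intro a b h
  have : algebraMap F L (a : F) = algebraMap F L (b : F) := h
  exact Subtype.ext ((algebraMap F L).injective this)

abbrev Cinf : Subalgebra (Oinf σ k F) L := integralClosure (Oinf σ k F) L

variable [FiniteDimensional F L] [Algebra.IsSeparable F L]

instance : IsDedekindDomain (Cinf σ k F L) :=
  integralClosure.isDedekindDomain (Oinf σ k F) F L

instance : IsFractionRing (Cinf σ k F L) L :=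
  integralClosure.isFractionRing_of_finite_extension F L

theorem unif_mem_of_prime (P : Ideal (Cinf σ k F L)) [P.IsPrime] (hP : P ≠ ⊥) :
    algebraMap (Oinf σ k F) (Cinf σ k F L) (unif σ k F) ∈ P := by
  have h1 : P.comap (algebraMap (Oinf σ k F) (Cinf σ k F L)) ≠ ⊥ := by
    intro h
    exact hP (Ideal.eq_bot_of_comap_eq_bot h)
  have h2 : (P.comap (algebraMap (Oinf σ k F) (Cinf σ k F L))).IsMaximal :=
    Ring.DimensionLEOne.maximalOfPrime h1 inferInstance
  have h3 := IsLocalRing.eq_maximalIdeal h2
  have h4 : unif σ k F ∈ IsLocalRing.maximalIdeal (Oinf σ k F) := by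
    rw [IsLocalRing.mem_maximalIdeal, mem_nonunits_iff]
    exact (irreducible_unif σ k F).not_isUnit
  rw [← h3] at h4
  exact h4

instance : Finite (HeightOneSpectrum (Cinf σ k F L)) := by
  have hne : Ideal.span {algebraMap (Oinf σ k F) (Cinf σ k F L) (unif σ k F)} ≠ 0 := by
    intro h
    rw [Ideal.zero_eq_bot, Ideal.span_singleton_eq_bot] at h
    have hinj : Function.Injective (algebraMap (Oinf σ k F) (Cinf σ k F L)) := by
      intro a b hab
      apply algebraMap_Oinf_L_injective σ k F L
      have := congrArg (algebraMap (Cinf σ k F L) L) hab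
      rwa [← IsScalarTower.algebraMap_apply, ← IsScalarTower.algebraMap_apply] at this
    have h0 : unif σ k F = 0 := hinj (by rw [h, map_zero])
    exact unif_ne_zero σ k F (by rw [h0]; rfl)
  have hfin := Ideal.finite_factors hne
  have huniv : {v : HeightOneSpectrum (Cinf σ k F L) |
      v.asIdeal ∣ Ideal.span {algebraMap (Oinf σ k F) (Cinf σ k F L) (unif σ k F)}} = Set.univ := by
    ext v
    simp only [Set.mem_ofPred_eq, Set.mem_univ, iff_true]
    rw [Ideal.dvd_iff_le, Ideal.span_singleton_le_iff_mem]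
    haveI := v.isPrime
    exact unif_mem_of_prime σ k F L v.asIdeal v.ne_bot
  rw [huniv] at hfin
  exact Set.finite_univ_iff.mp hfin

def valHom (v : HeightOneSpectrum (Cinf σ k F L)) : Lˣ →* Multiplicative ℤ :=
  (WithZero.unitsWithZeroEquiv).toMonoidHom.comp
    (Units.map ((v.valuation L : Valuation L ℤᵐ⁰) : L →* ℤᵐ⁰))

theorem valHom_eq_one_iff (v : HeightOneSpectrum (Cinf σ k F L)) (u : Lˣ) :
    valHom σ k F L v u = 1 ↔ v.valuation L (u : L) = 1 := by
  unfold valHom
  rw [MonoidHom.comp_apply]
  constructor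
  · intro h
    have h1 : Units.map ((v.valuation L : Valuation L ℤᵐ⁰) : L →* ℤᵐ⁰) u = 1 := by
      apply (WithZero.unitsWithZeroEquiv (α := Multiplicative ℤ)).injective
      rw [map_one]
      exact h
    have := congrArg Units.val h1
    simpa using this
  · intro h
    have h1 : Units.map ((v.valuation L : Valuation L ℤᵐ⁰) : L →* ℤᵐ⁰) u = 1 := by
      apply Units.ext
      simpa using h
    rw [h1]
    exact map_one _

def phi : Lˣ →* (HeightOneSpectrum (Cinf σ k F L) → Multiplicative ℤ) :=
  MonoidHom.pi (fun v => valHom σ k F L v)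

theorem phi_eq_one_iff (u : Lˣ) :
    phi σ k F L u = 1 ↔ ∀ v : HeightOneSpectrum (Cinf σ k F L), v.valuation L (u : L) = 1 := by
  unfold phi
  rw [funext_iff]
  constructor
  · intro h v
    exact (valHom_eq_one_iff σ k F L v u).mp (h v)
  · intro h v
    exact (valHom_eq_one_iff σ k F L v u).mpr (h v)

def kToO : k →+* Oinf σ k F where
  toFun c := ⟨algebraMap (MvPolynomial σ k) F (C c), (algebraMap_mem_Oinf_iff σ k F _).mpr ⟨c, rfl⟩⟩
  map_one' := by apply Subtype.ext; simp
  map_mul' a b := by apply Subtype.ext; simp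
  map_zero' := by apply Subtype.ext; simp
  map_add' a b := by apply Subtype.ext; simp

variable [Algebra (MvPolynomial σ k) L] [IsScalarTower (MvPolynomial σ k) F L]
variable [Algebra k L] [IsScalarTower k (MvPolynomial σ k) L]

theorem algebraMap_comp_kToO :
    (algebraMap (Oinf σ k F) L).comp (kToO σ k F) = algebraMap k L := by
  ext c
  show algebraMap F L (algebraMap (MvPolynomial σ k) F (C c)) = _
  rw [← IsScalarTower.algebraMap_apply, IsScalarTower.algebraMap_apply k (MvPolynomial σ k) L]
  rfl

theorem isIntegral_Oinf_of_isIntegral {x : L} (hx : IsIntegral k x) :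
    IsIntegral (Oinf σ k F) x := by
  obtain ⟨q, hq, hq0⟩ := hx
  refine ⟨q.map (kToO σ k F), hq.map _, ?_⟩
  rw [Polynomial.eval₂_map, algebraMap_comp_kToO]
  exact hq0

theorem valuation_eq_one_of_isIntegral (u : Lˣ) (hu : IsIntegral k (u : L))
    (v : HeightOneSpectrum (Cinf σ k F L)) : v.valuation L (u : L) = 1 := by
  have hu' : IsIntegral k ((u⁻¹ : Lˣ) : L) := by
    rw [Units.val_inv_eq_inv_val]
    exact hu.inv
  have h1 := isIntegral_Oinf_of_isIntegral σ k F L hu
  have h2 := isIntegral_Oinf_of_isIntegral σ k F L hu'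
  have e1 : v.valuation L (u : L) ≤ 1 := by
    have : (u : L) = algebraMap (Cinf σ k F L) L ⟨(u : L), h1⟩ := rfl
    rw [this]
    exact v.valuation_le_one _
  have e2 : v.valuation L ((u⁻¹ : Lˣ) : L) ≤ 1 := by
    have : ((u⁻¹ : Lˣ) : L) = algebraMap (Cinf σ k F L) L ⟨((u⁻¹ : Lˣ) : L), h2⟩ := rfl
    rw [this]
    exact v.valuation_le_one _
  rw [Units.val_inv_eq_inv_val, map_inv₀] at e2
  have hne : v.valuation L (u : L) ≠ 0 := (Valuation.ne_zero_iff _).mpr u.ne_zero
  have e3 : 1 ≤ v.valuation L (u : L) := by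
    rwa [inv_le_one₀ (zero_lt_iff.mpr hne)] at e2
  exact le_antisymm e1 e3

theorem isIntegral_of_valuation_le_one (x : L) (hx : IsIntegral (MvPolynomial σ k) x)
    (h : ∀ v : HeightOneSpectrum (Cinf σ k F L), v.valuation L x ≤ 1) : IsIntegral k x := by
  obtain ⟨⟨y, hy⟩, rfl⟩ := HeightOneSpectrum.mem_integers_of_valuation_le_one L x h
  have hy' : IsIntegral (Oinf σ k F) y := hy
  have hx' : IsIntegral (MvPolynomial σ k) y := hx
  have e1 := minpoly.isIntegrallyClosed_eq_field_fractions' F hx'
  have e2 := minpoly.isIntegrallyClosed_eq_field_fractions' F hy'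
  have hlift : minpoly (MvPolynomial σ k) y ∈ Polynomial.lifts (C : k →+* MvPolynomial σ k) := by
    rw [Polynomial.lifts_iff_coeff_lifts]
    intro n
    have hc : algebraMap (MvPolynomial σ k) F ((minpoly (MvPolynomial σ k) y).coeff n) ∈
        Oinf σ k F := by
      have := congrArg (fun p => Polynomial.coeff p n) (e1.symm.trans e2)
      simp only [Polynomial.coeff_map] at this
      rw [this]
      exact ((minpoly (Oinf σ k F) y).coeff n).2
    obtain ⟨c, hc⟩ := (algebraMap_mem_Oinf_iff σ k F _).mp hc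
    exact ⟨c, hc.symm⟩
  obtain ⟨q, hq, -, hqm⟩ := Polynomial.lifts_and_degree_eq_and_monic hlift (minpoly.monic hx')
  refine ⟨q, hqm, ?_⟩
  have := minpoly.aeval (MvPolynomial σ k) y
  rw [← hq, Polynomial.aeval_def, Polynomial.eval₂_map] at this
  rw [← this]
  congr 1
  ext c
  rw [RingHom.comp_apply, IsScalarTower.algebraMap_apply k (MvPolynomial σ k) L]
  rfl

theorem phi_eq_one_iff_isIntegral (u : Lˣ) (hu : IsIntegral (MvPolynomial σ k) (u : L)) :
    phi σ k F L u = 1 ↔ IsIntegral k (u : L) := by
  rw [phi_eq_one_iff]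
  constructor
  · intro h
    exact isIntegral_of_valuation_le_one σ k F L _ hu (fun v => (h v).le)
  · intro h v
    exact valuation_eq_one_of_isIntegral σ k F L u h v

end

end Groth.Agent.Lib.Helper32.Units
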