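import Mathlib
import Groth.Agent.Lib.Helper32.Units.Closure

namespace Groth.Agent.Lib.Helper32.Units

open MvPolynomial IsDedekindDomain
open scoped nonZeroDivisors

universe u v

theorem exists_hom_of_finite (σ : Type) [Finite σ] [Nonempty σ] (k : Type u) [Field k]
    (A : Type v) [CommRing A] [IsDomain A]
    [Algebra k A] [Algebra (MvPolynomial σ k) A] [IsScalarTower k (MvPolynomial σ k) A]
    [Module.Finite (MvPolynomial σ k) A]
    (hinj : Function.Injective (algebraMap (MvPolynomial σ k) A)) :
    ∃ (ι : Type v) (_ : Finite ι) (ψ : Aˣ →* (ι → Multiplicative ℤ)),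
      ∀ u : Aˣ, ψ u = 1 ↔ IsIntegral k (u : A) := by
  classical
  let R := MvPolynomial σ k
  let K := FractionRing A
  let F := FractionRing R
  haveI : FaithfulSMul R A := (faithfulSMul_iff_algebraMap_injective R A).mpr hinj
  haveI : FaithfulSMul R K := (faithfulSMul_iff_algebraMap_injective R K).mpr (by
    rw [IsScalarTower.algebraMap_eq R A K]
    exact (IsFractionRing.injective A K).comp hinj)
  letI : Algebra F K := FractionRing.liftAlgebra R K
  haveI : IsScalarTower R F K := FractionRing.isScalarTower_liftAlgebra R K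
  haveI : Algebra.IsIntegral R A := inferInstance
  haveI : Algebra.IsAlgebraic R A := inferInstance
  haveI : IsLocalization (Algebra.algebraMapSubmonoid A R⁰) K := inferInstance
  haveI : Module.Finite F K := Module.Finite.of_isLocalization R A R⁰
  haveI : Algebra.IsAlgebraic F K := Algebra.IsAlgebraic.of_finite F K
  let Ls : IntermediateField F K := separableClosure F K
  haveI : IsPurelyInseparable Ls K := separableClosure.isPurelyInseparable F K
  haveI : FiniteDimensional Ls K := inferInstance
  haveI : IsPurelyInseparable.HasExponent Ls K := IsPurelyInseparable.hasExponent_of_finiteDimensional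
  haveI : FiniteDimensional F Ls := inferInstance
  haveI : Algebra.IsSeparable F Ls := separableClosure.isSeparable F K
  let q : ℕ := ringExpChar Ls ^ IsPurelyInseparable.exponent Ls K
  have hq : 0 < q := pow_pos (expChar_pos Ls (ringExpChar Ls)) _
  letI algRL : Algebra R Ls := ((algebraMap F Ls).comp (algebraMap R F)).toAlgebra
  haveI tRFL : IsScalarTower R F Ls := IsScalarTower.of_algebraMap_eq (fun _ => rfl)
  letI algkL : Algebra k Ls := ((algebraMap R Ls).comp (algebraMap k R)).toAlgebra
  haveI tkRL : IsScalarTower k R Ls := IsScalarTower.of_algebraMap_eq (fun _ => rfl)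
  haveI tRLK : IsScalarTower R Ls K := IsScalarTower.of_algebraMap_eq (fun r => by
    show algebraMap R K r = algebraMap Ls K (algebraMap F Ls (algebraMap R F r))
    rw [← IsScalarTower.algebraMap_apply F Ls K, ← IsScalarTower.algebraMap_apply R F K])
  haveI tkLK : IsScalarTower k Ls K := IsScalarTower.of_algebraMap_eq (fun c => by
    show algebraMap k K c = algebraMap Ls K (algebraMap R Ls (algebraMap k R c))
    rw [← IsScalarTower.algebraMap_apply R Ls K, IsScalarTower.algebraMap_apply R A K,
      ← IsScalarTower.algebraMap_apply k R A, ← IsScalarTower.algebraMap_apply k A K])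
  have hmem : ∀ a : A, (algebraMap A K a) ^ q ∈ Ls := by
    intro a
    obtain ⟨y, hy⟩ := IsPurelyInseparable.exponent_def Ls (algebraMap A K a)
    rw [← hy]
    exact y.2
  let ρ : A →* Ls :=
    { toFun := fun a => ⟨(algebraMap A K a) ^ q, hmem a⟩
      map_one' := by apply Subtype.ext; simp
      map_mul' := fun a b => by apply Subtype.ext; simp [mul_pow] }
  have hρ : ∀ a : A, algebraMap Ls K (ρ a) = (algebraMap A K a) ^ q := fun a => rfl
  refine ⟨HeightOneSpectrum (Cinf σ k F Ls), inferInstance,
    (phi σ k F Ls).comp (Units.map ρ), ?_⟩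
  intro u
  have h1 : IsIntegral R (u : A) := Algebra.IsIntegral.isIntegral _
  have h2 : IsIntegral R ((algebraMap A K (u : A)) ^ q) := (h1.algebraMap).pow q
  have hu : IsIntegral R (((Units.map ρ u : Lsˣ) : Ls)) := by
    rw [← isIntegral_algebraMap_iff (algebraMap Ls K).injective]
    exact h2
  rw [MonoidHom.comp_apply, phi_eq_one_iff_isIntegral σ k F Ls _ hu]
  rw [← isIntegral_algebraMap_iff (R := k) (algebraMap Ls K).injective]
  show IsIntegral k ((algebraMap A K (u : A)) ^ q) ↔ _
  rw [IsIntegral.pow_iff hq, isIntegral_algebraMap_iff (IsFractionRing.injective A K)]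

theorem exists_hom_of_domain (k : Type u) [Field k] (A : Type v) [CommRing A] [IsDomain A]
    [Algebra k A] [Algebra.FiniteType k A] :
    ∃ (ι : Type v) (_ : Finite ι) (ψ : Aˣ →* (ι → Multiplicative ℤ)),
      ∀ u : Aˣ, ψ u = 1 ↔ IsIntegral k (u : A) := by
  obtain ⟨s, g, hinj, hfin⟩ := exists_finite_inj_algHom_of_fg k A
  letI : Algebra (MvPolynomial (Fin s) k) A := g.toRingHom.toAlgebra
  haveI : IsScalarTower k (MvPolynomial (Fin s) k) A :=
    IsScalarTower.of_algebraMap_eq (fun c => (g.commutes c).symm)
  haveI : Module.Finite (MvPolynomial (Fin s) k) A := hfin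
  rcases Nat.eq_zero_or_pos s with hs | hs
  · subst hs
    refine ⟨PEmpty, inferInstance, 1, ?_⟩
    intro u
    simp only [MonoidHom.one_apply, true_iff]
    have h1 : IsIntegral (MvPolynomial (Fin 0) k) (u : A) := Algebra.IsIntegral.isIntegral _
    haveI : Algebra.IsIntegral k (MvPolynomial (Fin 0) k) :=
      Algebra.isIntegral_of_surjective (MvPolynomial.C_surjective (Fin 0))
    exact isIntegral_trans _ h1
  · haveI : Nonempty (Fin s) := ⟨⟨0, hs⟩⟩
    exact exists_hom_of_finite (Fin s) k A hinj

end Groth.Agent.Lib.Helper32.Units
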