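import Mathlib

namespace Groth.Agent.Lib.Helper32.Units

theorem exists_surjective_of_hom {G : Type*} [Group G] {ι : Type*} [Finite ι]
    (w : G →* (ι → Multiplicative ℤ)) :
    ∃ (n : ℕ) (v : G →* Multiplicative (Fin n → ℤ)), Function.Surjective v ∧ v.ker = w.ker := by
  classical
  haveI : Fintype ι := Fintype.ofFinite ι
  let N : Submodule ℤ (ι → ℤ) :=
    { carrier := {x | ∃ g : G, ∀ i, Multiplicative.toAdd (w g i) = x i}
      zero_mem' := ⟨1, fun i => by simp⟩
      add_mem' := by
        rintro x y ⟨g, hg⟩ ⟨h, hh⟩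
        refine ⟨g * h, fun i => ?_⟩
        rw [map_mul, Pi.mul_apply, toAdd_mul, hg, hh, Pi.add_apply]
      smul_mem' := by
        rintro c x ⟨g, hg⟩
        refine ⟨g ^ c, fun i => ?_⟩
        rw [map_zpow, Pi.pow_apply, toAdd_zpow, hg, Pi.smul_apply] }
  obtain ⟨n, B⟩ := Submodule.basisOfPid (Pi.basisFun ℤ ι) N
  have hmem : ∀ g : G, (fun i => Multiplicative.toAdd (w g i)) ∈ N := fun g => ⟨g, fun _ => rfl⟩
  let v : G →* Multiplicative (Fin n → ℤ) :=
    { toFun := fun g => Multiplicative.ofAdd (B.equivFun ⟨_, hmem g⟩)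
      map_one' := by
        have : (⟨_, hmem 1⟩ : N) = 0 := by
          apply Subtype.ext
          funext i
          simp
        rw [this, map_zero]
        rfl
      map_mul' := fun g h => by
        have : (⟨_, hmem (g * h)⟩ : N) = ⟨_, hmem g⟩ + ⟨_, hmem h⟩ := by
          apply Subtype.ext
          funext i
          simp
        rw [this, map_add]
        rfl }
  refine ⟨n, v, ?_, ?_⟩
  · intro y
    obtain ⟨g, hg⟩ := (B.equivFun.symm (Multiplicative.toAdd y)).2
    refine ⟨g, ?_⟩
    show Multiplicative.ofAdd (B.equivFun ⟨_, hmem g⟩) = y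
    have : (⟨_, hmem g⟩ : N) = B.equivFun.symm (Multiplicative.toAdd y) := by
      apply Subtype.ext
      funext i
      exact hg i
    rw [this, LinearEquiv.apply_symm_apply]
    rfl
  · ext g
    rw [MonoidHom.mem_ker, MonoidHom.mem_ker]
    show Multiplicative.ofAdd (B.equivFun ⟨_, hmem g⟩) = 1 ↔ _
    constructor
    · intro h
      have h0 : B.equivFun ⟨_, hmem g⟩ = 0 := h
      have h1 : (⟨_, hmem g⟩ : N) = 0 := by
        apply B.equivFun.injective
        rw [h0, map_zero]
      funext i
      have := congrFun (congrArg Subtype.val h1) i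
      exact this
    · intro h
      have h1 : (⟨_, hmem g⟩ : N) = 0 := by
        apply Subtype.ext
        funext i
        show Multiplicative.toAdd (w g i) = 0
        rw [h]
        rfl
      rw [h1, map_zero]
      rfl

theorem fg_quotient_of_hom {G : Type*} [CommGroup G] {ι : Type*} [Finite ι]
    (w : G →* (ι → Multiplicative ℤ)) (N : Subgroup G) (hN : w.ker = N) :
    Group.FG (G ⧸ N) := by
  obtain ⟨n, v, hsurj, hker⟩ := exists_surjective_of_hom w
  have e1 : G ⧸ v.ker ≃* Multiplicative (Fin n → ℤ) :=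
    QuotientGroup.quotientKerEquivOfSurjective v hsurj
  have e2 : G ⧸ v.ker ≃* G ⧸ N := QuotientGroup.quotientMulEquivOfEq (hker.trans hN)
  haveI : Group.FG (Multiplicative (Fin n → ℤ)) := by
    rw [← AddGroup.fg_iff_mul_fg]
    exact Module.Finite.iff_addGroup_fg.mp inferInstance
  exact Group.fg_of_surjective (f := (e2.toMonoidHom.comp e1.symm.toMonoidHom))
    (e2.surjective.comp e1.symm.surjective)

end Groth.Agent.Lib.Helper32.Units
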