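import Mathlib
import Groth.Agent.Lib.Helper32.Units.Domain
import Groth.Agent.Lib.Helper32.Units.Grp

namespace Groth.Agent.Lib.Helper32.Units

open AlgebraicGeometry CategoryTheory Opposite

universe u

noncomputable def structHom (k : Type u) [Field k] (X : Scheme.{u})
    (f : X ⟶ Spec (CommRingCat.of k)) (U : X.Opens) : k →+* Γ(X, U) :=
  (X.presheaf.map (homOfLE (le_top : U ≤ ⊤)).op).hom.comp
    (f.appTop.hom.comp (Scheme.ΓSpecIso (CommRingCat.of k)).inv.hom)

theorem structHom_finiteType (k : Type u) [Field k] (X : Scheme.{u})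
    (f : X ⟶ Spec (CommRingCat.of k)) [LocallyOfFiniteType f] (U : X.Opens) (hU : IsAffineOpen U) :
    (structHom k X f U).FiniteType := by
  have h1 : RingHom.FiniteType (f.appLE ⊤ U le_top).hom :=
    HasRingHomProperty.appLE (P := @LocallyOfFiniteType) f inferInstance
      ⟨⊤, isAffineOpen_top _⟩ ⟨U, hU⟩ le_top
  have h2 : RingHom.FiniteType (Scheme.ΓSpecIso (CommRingCat.of k)).inv.hom := by
    apply RingHom.FiniteType.of_surjective
    intro x
    refine ⟨(Scheme.ΓSpecIso (CommRingCat.of k)).hom.hom x, ?_⟩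
    have := (Scheme.ΓSpecIso (CommRingCat.of k)).hom_inv_id
    exact congrArg (fun g => g.hom x) this
  have h3 := h1.comp h2
  have e : structHom k X f U = (f.appLE ⊤ U le_top).hom.comp
      (Scheme.ΓSpecIso (CommRingCat.of k)).inv.hom := by
    unfold structHom Scheme.Hom.appLE Scheme.Hom.appTop
    rw [CommRingCat.hom_comp, RingHom.comp_assoc]
    rfl
  rw [e]
  exact h3

theorem exists_hom_of_affineOpen (k : Type u) [Field k] (X : Scheme.{u})
    (f : X ⟶ Spec (CommRingCat.of k)) [LocallyOfFiniteType f] (U : X.Opens) (hU : IsAffineOpen U)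
    [IsDomain Γ(X, U)] :
    ∃ (ι : Type u) (_ : Finite ι) (ψ : (Γ(X, U))ˣ →* (ι → Multiplicative ℤ)),
      ∀ u : (Γ(X, U))ˣ, ψ u = 1 ↔ (structHom k X f U).IsIntegralElem (u : Γ(X, U)) := by
  letI : Algebra k Γ(X, U) := (structHom k X f U).toAlgebra
  haveI : Algebra.FiniteType k Γ(X, U) := structHom_finiteType k X f U hU
  exact exists_hom_of_domain k Γ(X, U)

theorem exists_eq_of_isIntegralElem {k : Type*} [Field k] [IsAlgClosed k] {A : Type*} [CommRing A]
    [IsDomain A] (φ : k →+* A) {a : A} (ha : φ.IsIntegralElem a) : ∃ c : k, φ c = a := by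
  letI : Algebra k A := φ.toAlgebra
  have ha' : IsIntegral k a := ha
  have h1 : Irreducible (minpoly k a) := minpoly.irreducible ha'
  have h2 := IsAlgClosed.degree_eq_one_of_irreducible k h1
  obtain ⟨c, hc⟩ := minpoly.mem_range_of_degree_eq_one k a h2
  exact ⟨c, hc⟩

theorem isIntegralElem_map {k : Type*} [Field k] {A : Type*} [CommRing A]
    (φ : k →+* A) (c : k) : φ.IsIntegralElem (φ c) :=
  ⟨Polynomial.X - Polynomial.C c, Polynomial.monic_X_sub_C c, by simp⟩

end Groth.Agent.Lib.Helper32.Units
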