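import Mathlib
import Groth.Agent.Lib.Helper32.Units.Domain
import Groth.Agent.Lib.Helper32.Units.Scheme

namespace Groth.Agent.Lib.Helper32.Units

universe u v

section Reduced

variable (k : Type u) [Field k] [IsAlgClosed k] (A : Type v) [CommRing A] [Algebra k A]
  [Algebra.FiniteType k A]

def LocConst (a : A) : Prop :=
  ∀ P ∈ minimalPrimes A, ∃ c : k, a - algebraMap k A c ∈ P

theorem exists_hom_of_reduced :
    ∃ (J : Type v) (_ : Finite J) (Ψ : Aˣ →* (J → Multiplicative ℤ)),
      ∀ u : Aˣ, Ψ u = 1 ↔ LocConst k A (u : A) := by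
  classical
  haveI : IsNoetherianRing A := Algebra.FiniteType.isNoetherianRing k A
  haveI : Finite ↥(minimalPrimes A) := (minimalPrimes.finite_of_isNoetherianRing A).to_subtype
  haveI : ∀ P : ↥(minimalPrimes A), P.1.IsPrime := fun P => Ideal.minimalPrimes_isPrime P.2
  have hft : ∀ P : ↥(minimalPrimes A), Algebra.FiniteType k (A ⧸ P.1) := fun P =>
    Algebra.FiniteType.of_surjective (Ideal.Quotient.mkₐ k P.1) (Ideal.Quotient.mkₐ_surjective k P.1)
  choose J hJ ψ hψ using fun P : ↥(minimalPrimes A) =>
    haveI := hft P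
    exists_hom_of_domain k (A ⧸ P.1)
  haveI : ∀ P, Finite (J P) := hJ
  refine ⟨Σ P : ↥(minimalPrimes A), J P, inferInstance,
    MonoidHom.pi (fun p => (Pi.evalMonoidHom _ p.2).comp
      ((ψ p.1).comp (Units.map (Ideal.Quotient.mk p.1.1 : A →* A ⧸ p.1.1)))), ?_⟩
  intro u
  have hw : (MonoidHom.pi (fun p : Σ P : ↥(minimalPrimes A), J P => (Pi.evalMonoidHom _ p.2).comp
      ((ψ p.1).comp (Units.map (Ideal.Quotient.mk p.1.1 : A →* A ⧸ p.1.1))))) u = 1 ↔
      ∀ P, ψ P (Units.map (Ideal.Quotient.mk P.1 : A →* A ⧸ P.1) u) = 1 := by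
    constructor
    · intro h P
      funext j
      exact congrFun h ⟨P, j⟩
    · intro h
      funext p
      exact congrFun (h p.1) p.2
  rw [hw]
  constructor
  · intro h P hP
    haveI : P.IsPrime := Ideal.minimalPrimes_isPrime hP
    have h1 := (hψ ⟨P, hP⟩ _).mp (h ⟨P, hP⟩)
    obtain ⟨c, hc⟩ := exists_eq_of_isIntegralElem (algebraMap k (A ⧸ P)) h1
    refine ⟨c, ?_⟩
    rw [← Ideal.Quotient.eq]
    exact hc.symm
  · intro h P
    rw [hψ]
    obtain ⟨c, hc⟩ := h P.1 P.2
    rw [← Ideal.Quotient.eq] at hc
    have : ((Units.map (Ideal.Quotient.mk P.1 : A →* A ⧸ P.1) u : (A ⧸ P.1)ˣ) : A ⧸ P.1) =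
        algebraMap k (A ⧸ P.1) c := hc
    rw [this]
    exact isIntegral_algebraMap

end Reduced

section Hopf

variable (k : Type u) [Field k] [IsAlgClosed k] (A : Type v) [CommRing A] [HopfAlgebra k A]
  [Algebra.FiniteType k A] [IsReduced A]

theorem finite_groupLike_locConst :
    {χ : GroupLike k A | LocConst k A χ.val}.Finite := by
  classical
  haveI : IsNoetherianRing A := Algebra.FiniteType.isNoetherianRing k A
  haveI : Finite ↥(minimalPrimes A) := (minimalPrimes.finite_of_isNoetherianRing A).to_subtype
  let π : A →ₗ[k] (∀ P : ↥(minimalPrimes A), A ⧸ P.1) :=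
    LinearMap.pi (fun P => (Ideal.Quotient.mkₐ k P.1).toLinearMap)
  have hπ : Function.Injective π := by
    rw [← LinearMap.ker_eq_bot, Submodule.eq_bot_iff]
    intro a ha
    have h0 : ∀ P : ↥(minimalPrimes A), a ∈ P.1 := by
      intro P
      have := congrFun ha P
      exact Ideal.Quotient.eq_zero_iff_mem.mp this
    have h1 : a ∈ sInf (minimalPrimes A) := by
      rw [Ideal.mem_sInf]
      intro P hP
      exact h0 ⟨P, hP⟩
    have h2 : sInf (minimalPrimes A) = nilradical A := by
      show sInf ((⊥ : Ideal A).minimalPrimes) = _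
      rw [Ideal.sInf_minimalPrimes]
      rfl
    rw [h2, nilradical_eq_zero] at h1
    exact h1
  let L : (↥(minimalPrimes A) → k) →ₗ[k] (∀ P : ↥(minimalPrimes A), A ⧸ P.1) :=
    LinearMap.pi (fun P => (Algebra.linearMap k (A ⧸ P.1)).comp (LinearMap.proj P))
  let T : Submodule k (∀ P : ↥(minimalPrimes A), A ⧸ P.1) := LinearMap.range L
  haveI : FiniteDimensional k T := LinearMap.finiteDimensional_range L
  let E : Submodule k A := T.comap π
  let πE : E →ₗ[k] T := π.restrict (fun a ha => ha)
  have hπE : Function.Injective πE := by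
    intro a b hab
    apply Subtype.ext
    apply hπ
    exact congrArg Subtype.val hab
  haveI : FiniteDimensional k E := FiniteDimensional.of_injective πE hπE
  have hmem : ∀ χ : {χ : GroupLike k A | LocConst k A χ.val}, (χ.1.val : A) ∈ E := by
    rintro ⟨χ, hχ⟩
    choose c hc using fun P : ↥(minimalPrimes A) => hχ P.1 P.2
    refine ⟨c, ?_⟩
    funext P
    show algebraMap k (A ⧸ P.1) (c P) = Ideal.Quotient.mk P.1 χ.val
    have := hc P
    rw [← Ideal.Quotient.eq] at this
    exact this.symm
  let v : {χ : GroupLike k A | LocConst k A χ.val} → E := fun χ => ⟨χ.1.val, hmem χ⟩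
  have hv : LinearIndependent k v := by
    apply LinearIndependent.of_comp E.subtype
    have : (E.subtype ∘ v) = (GroupLike.val (R := k) (A := A)) ∘ Subtype.val := rfl
    rw [this]
    exact (linearIndep_groupLikeVal (R := k) (A := A)).comp _ Subtype.val_injective
  exact Set.finite_coe_iff.mp hv.finite_of_isNoetherian

theorem finite_int_groupLike : Module.Finite ℤ (Additive (GroupLike k A)) := by
  classical
  obtain ⟨J, hJ, Ψ, hΨ⟩ := exists_hom_of_reduced k A
  let Φ : GroupLike k A →* (J → Multiplicative ℤ) := Ψ.comp (GroupLike.toUnits k)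
  let f0 : Additive (GroupLike k A) →+ (J → ℤ) :=
    { toFun := fun x j => Multiplicative.toAdd (Φ (Additive.toMul x) j)
      map_zero' := by
        funext j
        simp
      map_add' := fun x y => by
        funext j
        simp [toMul_add, map_mul] }
  let f : Additive (GroupLike k A) →ₗ[ℤ] (J → ℤ) := f0.toIntLinearMap
  have hker : ∀ x : Additive (GroupLike k A), x ∈ LinearMap.ker f ↔
      LocConst k A (Additive.toMul x).val := by
    intro x
    rw [LinearMap.mem_ker]
    have h1 : f x = 0 ↔ Φ (Additive.toMul x) = 1 := by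
      constructor
      · intro h
        funext j
        have := congrFun h j
        exact this
      · intro h
        funext j
        show Multiplicative.toAdd (Φ (Additive.toMul x) j) = 0
        rw [h]
        rfl
    rw [h1]
    exact hΨ (GroupLike.toUnits k (Additive.toMul x))
  haveI : Finite ↥(LinearMap.ker f) := by
    have hfin := finite_groupLike_locConst k A
    have : Function.Injective (fun x : ↥(LinearMap.ker f) =>
        (⟨Additive.toMul x.1, (hker x.1).mp x.2⟩ : {χ : GroupLike k A | LocConst k A χ.val})) := by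
      intro x y hxy
      apply Subtype.ext
      have := congrArg Subtype.val hxy
      exact this
    haveI hfin' := hfin.to_subtype
    exact Finite.of_injective _ this
  haveI : Module.Finite ℤ ↥(LinearMap.ker f) := Module.Finite.of_finite
  haveI : Module.Finite ℤ (Additive (GroupLike k A) ⧸ LinearMap.ker f) :=
    Module.Finite.equiv f.quotKerEquivRange.symm
  exact Module.Finite.of_submodule_quotient (LinearMap.ker f)

end Hopf

end Groth.Agent.Lib.Helper32.Units
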