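import Mathlib

namespace Groth.Agent.Lib.Helper32.Units

open AlgebraicGeometry CategoryTheory Opposite TopologicalSpace

universe u

theorem exists_affineOpen_of_component (X : Scheme.{u})
    (hirr : (irreducibleComponents (X : Type u)).Finite) (Z : Set X)
    (hZ : Z ∈ irreducibleComponents (X : Type u)) :
    ∃ U : X.Opens, IsAffineOpen U ∧ (U : Set X).Nonempty ∧ (U : Set X) ⊆ Z ∧
      IsIrreducible (U : Set X) := by
  have hcl := closure_sUnion_irreducibleComponents_sdiff_singleton hirr Z hZ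
  set W : Set X := (⋃₀ (irreducibleComponents (X : Type u) \ {Z}))ᶜ with hW
  have hWopen : IsOpen W := by
    rw [hW, Set.sUnion_eq_biUnion, isOpen_compl_iff]
    exact hirr.sdiff.isClosed_biUnion fun V hV ↦ isClosed_of_mem_irreducibleComponents V hV.1
  have hWZ : W ⊆ Z := by
    rw [← hcl]
    exact subset_closure
  have hWne : W.Nonempty := by
    by_contra h
    rw [Set.not_nonempty_iff_eq_empty] at h
    rw [h, closure_empty] at hcl
    have := hZ.1.nonempty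
    rw [← hcl] at this
    exact Set.not_nonempty_empty this
  obtain ⟨x, hx⟩ := hWne
  obtain ⟨_, ⟨U, hU, rfl⟩, hxU, hUW⟩ := X.isBasis_affineOpens.exists_subset_of_mem_open hx hWopen
  refine ⟨U, hU, ⟨x, hxU⟩, hUW.trans hWZ, ⟨x, hxU⟩, ?_⟩
  exact hZ.1.2.open_subset U.2 (hUW.trans hWZ)

theorem isDomain_of_isIrreducible (X : Scheme.{u}) [IsReduced X] (U : X.Opens)
    (hU : IsIrreducible (U : Set X)) : IsDomain Γ(X, U) := by
  haveI : IrreducibleSpace ↥U := Subtype.irreducibleSpace hU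
  haveI : IrreducibleSpace (U : Scheme) := ‹IrreducibleSpace ↥U›
  haveI : IsIntegral (U : Scheme) := isIntegral_of_irreducibleSpace_of_isReduced _
  haveI : IsDomain Γ((U : Scheme), ⊤) := inferInstance
  exact MulEquiv.isDomain Γ((U : Scheme), ⊤) (U.topIso.commRingCatIsoToRingEquiv.symm).toMulEquiv

theorem eq_zero_of_forall_res (X : Scheme.{u}) [IsReduced X]
    (𝒰 : ∀ Z : irreducibleComponents (X : Type u), X.Opens)
    (hne : ∀ Z, ((𝒰 Z : X.Opens) : Set X).Nonempty)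
    (hsub : ∀ Z, ((𝒰 Z : X.Opens) : Set X) ⊆ Z.1)
    (s : Γ(X, ⊤))
    (hs : ∀ Z, X.presheaf.map (homOfLE (le_top : 𝒰 Z ≤ ⊤)).op s = 0) : s = 0 := by
  rw [← basicOpen_eq_bot_iff]
  by_contra h
  obtain ⟨y, hy⟩ : ((X.basicOpen s : X.Opens) : Set X).Nonempty := by
    rw [Set.nonempty_iff_ne_empty]
    intro h0
    apply h
    ext1
    simpa using h0
  obtain ⟨Z, hZ, hyZ⟩ := exists_mem_irreducibleComponents_subset_of_isIrreducible ({y} : Set X)
    isIrreducible_singleton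
  have hyZ' : y ∈ Z := hyZ rfl
  obtain ⟨z, hzU⟩ := hne ⟨Z, hZ⟩
  have := hZ.1.2 (X.basicOpen s : Set X) (𝒰 ⟨Z, hZ⟩ : Set X) (X.basicOpen s).2 (𝒰 ⟨Z, hZ⟩).2
    ⟨y, hyZ', hy⟩ ⟨z, hsub ⟨Z, hZ⟩ hzU, hzU⟩
  obtain ⟨w, -, hw1, hw2⟩ := this
  have hres := X.basicOpen_res s (homOfLE (le_top : 𝒰 ⟨Z, hZ⟩ ≤ ⊤)).op
  rw [hs ⟨Z, hZ⟩, Scheme.basicOpen_zero] at hres
  have hmem : w ∈ 𝒰 ⟨Z, hZ⟩ ⊓ X.basicOpen s := ⟨hw2, hw1⟩
  rw [← hres] at hmem
  exact hmem

end Groth.Agent.Lib.Helper32.Units
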