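import Mathlib
import Groth.Agent.Lib.Helper32.Rosenlicht.SemiInv
import Groth.Agent.Lib.Helper32.Units.Chars

open TensorProduct WithConv

universe u

namespace Groth.Agent.Lib.Helper32.Units

open Groth.Agent.Lib.Helper32.Rosenlicht Groth.Agent.Lib.Helper81.InvRational

variable {k : Type u} [Field k] [IsAlgClosed k] {A : Type u} [CommRing A] [HopfAlgebra k A]
  [Algebra.FiniteType k A] [IsReduced A]
  {B : Type u} [CommRing B] [Algebra k B] [Algebra.FiniteType k B] [IsReduced B]
  [HopfRep.Comod k A B] [GLin.IsCoactAlg k A B]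

theorem exists_groupLike_of_scalar (b : B) (hb : b ≠ 0)
    (hsc : ∀ φ : A →ₐ[k] k, ∃ c : k, actAlg (A := A) (R := B) φ b = c • b) :
    ∃ χ : GroupLike k A, HopfRep.Comod.coact (k := k) (A := A) b = b ⊗ₜ[k] χ.val := by
  obtain ⟨x₀, hx₀⟩ : ∃ x₀ : B →ₐ[k] k, x₀ b ≠ 0 := by
    by_contra h
    push Not at h
    exact hb (eq_zero_of_forall_algHom_of_isReduced (k := k) b h)
  choose c hc using hsc
  have key : ∀ (x : B →ₐ[k] k) (g : A →ₐ[k] k),
      ev x g (GLin.coactAlgHom k A B b) = c g * x b := by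
    intro x g
    rw [← actPt_eq_ev, ← apply_actAlg, hc g, map_smul, smul_eq_mul]
  let a : A := (x₀ b)⁻¹ • evalLeft x₀ (GLin.coactAlgHom k A B b)
  have hga : ∀ g : A →ₐ[k] k, g a = c g := by
    intro g
    show g ((x₀ b)⁻¹ • evalLeft x₀ (GLin.coactAlgHom k A B b)) = c g
    rw [map_smul, apply_evalLeft, key, smul_eq_mul]
    field_simp
  have hco : GLin.coactAlgHom k A B b = b ⊗ₜ[k] a := by
    rw [← sub_eq_zero]
    apply tensor_eq_zero_of_forall_ev (k := k)
    intro x g
    rw [map_sub, key, ev_tmul, hga]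
    ring
  have hcmul : ∀ g h : A →ₐ[k] k, c (cmul g h) = c g * c h := by
    intro g h
    have h1 : c (cmul g h) * x₀ b = c h * (c g * x₀ b) := by
      rw [← key x₀ (cmul g h), ← actPt_eq_ev, actPt_cmul, actPt_eq_ev, key, actPt_eq_ev, key]
    apply mul_right_cancel₀ hx₀
    rw [h1]
    ring
  have hcone : c (cone (k := k) (A := A)) = 1 := by
    have h1 : c (cone (k := k) (A := A)) * x₀ b = x₀ b := by
      rw [← key x₀ cone, ← actPt_eq_ev, actPt_cone]
    apply mul_right_cancel₀ hx₀
    rw [h1, one_mul]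
  refine ⟨⟨a, ⟨?_, ?_⟩⟩, hco⟩
  · have := hga (cone (k := k) (A := A))
    rw [hcone] at this
    exact this
  · rw [← sub_eq_zero]
    apply tensor_eq_zero_of_forall_ev (k := k)
    intro g h
    rw [map_sub, ← cmul_apply, ev_tmul, hga, hga, hga, hcmul, sub_self]

def SemiInv (b : B) (χ : GroupLike k A) : Prop :=
  HopfRep.Comod.coact (k := k) (A := A) b = b ⊗ₜ[k] χ.val

omit [IsAlgClosed k] [Algebra.FiniteType k A] [IsReduced A] [Algebra.FiniteType k B] [IsReduced B] in
theorem SemiInv.one : SemiInv (1 : B) (1 : GroupLike k A) := by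
  unfold SemiInv
  rw [GLin.IsCoactAlg.coact_one]
  rfl

omit [IsAlgClosed k] [Algebra.FiniteType k A] [IsReduced A] [Algebra.FiniteType k B] [IsReduced B] in
theorem SemiInv.mul {b b' : B} {χ χ' : GroupLike k A} (h : SemiInv b χ) (h' : SemiInv b' χ') :
    SemiInv (b * b') (χ * χ') := by
  unfold SemiInv at *
  rw [GLin.IsCoactAlg.coact_mul, h, h', Algebra.TensorProduct.tmul_mul_tmul]
  rfl

omit [IsAlgClosed k] [Algebra.FiniteType k A] [IsReduced A] [Algebra.FiniteType k B] [IsReduced B] in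
theorem SemiInv.pow {b : B} {χ : GroupLike k A} (h : SemiInv b χ) (n : ℕ) :
    SemiInv (b ^ n) (χ ^ n) := by
  induction n with
  | zero => simpa using SemiInv.one
  | succ n ih =>
    rw [pow_succ, pow_succ]
    exact ih.mul h

omit [IsAlgClosed k] [Algebra.FiniteType k A] [IsReduced A] [Algebra.FiniteType k B] [IsReduced B] in
theorem SemiInv.prod {ι : Type*} (s : Finset ι) (b : ι → B) (χ : ι → GroupLike k A)
    (h : ∀ i ∈ s, SemiInv (b i) (χ i)) : SemiInv (∏ i ∈ s, b i) (∏ i ∈ s, χ i) := by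
  classical
  induction s using Finset.induction_on with
  | empty => simpa using SemiInv.one
  | insert i s hi ih =>
    rw [Finset.prod_insert hi, Finset.prod_insert hi]
    exact (h i (Finset.mem_insert_self i s)).mul
      (ih (fun j hj => h j (Finset.mem_insert_of_mem hj)))

omit [IsAlgClosed k] [Algebra.FiniteType k A] [IsReduced A] [Algebra.FiniteType k B] [IsReduced B] in
theorem SemiInv.act {b : B} {χ : GroupLike k A} (h : SemiInv b χ) (φ : A →ₐ[k] k) :
    HopfRep.Comod.act k A B φ b = φ χ.val • b := by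
  unfold SemiInv at h
  unfold HopfRep.Comod.act
  simp [h]

end Groth.Agent.Lib.Helper32.Units
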